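import Groth.Prelude.Def_Conn
import Mathlib.LinearAlgebra.TensorProduct.Basis
import Mathlib.LinearAlgebra.FreeModule.Basic
import Mathlib.LinearAlgebra.Trace
import Mathlib.Tactic.Abel

/-!
# Evaluation lemmas for induced connections
-/

universe v u

open TensorProduct

namespace Groth.Agent.Conn95.Hom

variable {A : Type v} {B Ω M N P : Type u} [CommRing A] [CommRing B] [Algebra A B]
  [AddCommGroup Ω] [Module B Ω]
  [AddCommGroup M] [Module B M] [AddCommGroup N] [Module B N] [AddCommGroup P] [Module B P]

/-- Elements of `Hom(M, N) ⊗ Ω`, `Ω` free, are detected by evaluation. -/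
theorem ext_eval [Module.Free B Ω] {X Y : (M →ₗ[B] N) ⊗[B] Ω}
    (h : ∀ m : M, TensorProduct.map (LinearMap.applyₗ m) LinearMap.id X =
      TensorProduct.map (LinearMap.applyₗ m) LinearMap.id Y) : X = Y := by
  classical
  let b := Module.Free.chooseBasis B Ω
  apply (TensorProduct.equivFinsuppOfBasisRight (M := M →ₗ[B] N) b).injective
  have key : ∀ (m : M) (Z : (M →ₗ[B] N) ⊗[B] Ω) (i : _),
      TensorProduct.equivFinsuppOfBasisRight b
        (TensorProduct.map (LinearMap.applyₗ m) LinearMap.id Z) i =
      TensorProduct.equivFinsuppOfBasisRight b Z i m := by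
    intro m Z i
    induction Z using TensorProduct.induction_on with
    | zero => simp
    | tmul f w => simp
    | add x y hx hy => simp [hx, hy]
  exact Finsupp.ext fun i => LinearMap.ext fun m => by rw [← key, ← key, h m]

theorem map_swapR {M' : Type u} [AddCommGroup M'] [Module B M'] (f : M ⊗[B] M' →ₗ[B] P)
    (X : M ⊗[B] Ω) (y : M') :
    TensorProduct.map f LinearMap.id (Conn.swapR (X ⊗ₜ[B] y)) =
      TensorProduct.map (f ∘ₗ (TensorProduct.mk B M M').flip y) LinearMap.id X := by
  induction X using TensorProduct.induction_on with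
  | zero => simp
  | tmul x w => simp [Conn.swapR_tmul]
  | add a b ha hb => simp [TensorProduct.add_tmul, ha, hb]

theorem map_assoc_symm {M' : Type u} [AddCommGroup M'] [Module B M'] (f : M ⊗[B] M' →ₗ[B] P)
    (x : M) (Y : M' ⊗[B] Ω) :
    TensorProduct.map f LinearMap.id ((TensorProduct.assoc B M M' Ω).symm (x ⊗ₜ[B] Y)) =
      TensorProduct.map (f ∘ₗ TensorProduct.mk B M M' x) LinearMap.id Y := by
  induction Y using TensorProduct.induction_on with
  | zero => simp
  | tmul y w => simp
  | add a b ha hb => simp [TensorProduct.tmul_add, ha, hb]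

theorem map_map_id (f : N →ₗ[B] P) (g : M →ₗ[B] N) (X : M ⊗[B] Ω) :
    TensorProduct.map f LinearMap.id (TensorProduct.map g LinearMap.id X) =
      TensorProduct.map (f ∘ₗ g) LinearMap.id X := by
  rw [TensorProduct.map_map, LinearMap.id_comp]

theorem map_sum_left {ι : Type*} (s : Finset ι) (f : ι → M →ₗ[B] N) :
    TensorProduct.map (∑ i ∈ s, f i) (LinearMap.id : Ω →ₗ[B] Ω) =
      ∑ i ∈ s, TensorProduct.map (f i) LinearMap.id :=
  map_sum ((TensorProduct.mapBilinear (RingHom.id B) M Ω N Ω).flip LinearMap.id) f s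

variable [Module A Ω] [IsScalarTower A B Ω] [Module A M] [IsScalarTower A B M]

/-- `trace` is horizontal. -/
theorem isHorizontal_trace [Module.Free B M] [Module.Finite B M]
    (δ : Derivation A B Ω) (nabla : M →ₗ[A] M ⊗[B] Ω) (hc : Conn.IsConn δ nabla)
    (nablaE : (M →ₗ[B] M) →ₗ[A] (M →ₗ[B] M) ⊗[B] Ω) (hE : Conn.IsHomConn nabla nabla nablaE) :
    Conn.IsHorizontal nablaE (Conn.triv δ) (LinearMap.trace B M) := by
  classical
  intro φ
  let b := Module.Free.chooseBasis B M
  have htr : LinearMap.trace B M = ∑ i, (b.coord i) ∘ₗ LinearMap.applyₗ (b i) := by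
    refine LinearMap.ext fun f => ?_
    rw [LinearMap.trace_eq_matrix_trace B b]
    simp [Matrix.trace, LinearMap.toMatrix_apply]
  let r : M ⊗[B] Ω → _ → B ⊗[B] Ω := fun X i => TensorProduct.map (b.coord i) LinearMap.id X
  have hR : TensorProduct.map (LinearMap.trace B M) LinearMap.id (nablaE φ) =
      ∑ i, (r (nabla (φ (b i))) i - r (TensorProduct.map φ LinearMap.id (nabla (b i))) i) := by
    rw [htr, map_sum_left, LinearMap.sum_apply]
    refine Finset.sum_congr rfl fun i _ => ?_
    rw [← map_map_id, hE, map_sub]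
  have h1 : ∀ i, r (nabla (φ (b i))) i =
      (∑ k, b.repr (φ (b i)) k • r (nabla (b k)) i) + (1 : B) ⊗ₜ[B] δ (b.repr (φ (b i)) i) := by
    intro i
    dsimp only [r]
    conv_lhs => rw [← b.sum_repr (φ (b i))]
    simp only [map_sum, hc _ _, map_add, map_smul, TensorProduct.map_tmul, Module.Basis.coord_apply,
      Module.Basis.repr_self, LinearMap.id_coe, id_eq, Finset.sum_add_distrib]
    congr 1
    rw [Finset.sum_eq_single i]
    · simp
    · intro k _ hk
      simp [Finsupp.single_apply, hk]
    · simp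
  have h2 : ∀ i, r (TensorProduct.map φ LinearMap.id (nabla (b i))) i =
      ∑ k, b.repr (φ (b k)) i • r (nabla (b i)) k := by
    intro i
    have : b.coord i ∘ₗ φ = ∑ k, b.repr (φ (b k)) i • b.coord k := b.ext fun j => by
      simp [LinearMap.sum_apply, Finsupp.single_apply, mul_ite]
    dsimp only [r]
    rw [map_map_id, this, map_sum_left, LinearMap.sum_apply]
    simp only [TensorProduct.map_smul_left, LinearMap.smul_apply]
  rw [hR, Conn.triv_apply]
  simp only [h1, h2, Finset.sum_sub_distrib, Finset.sum_add_distrib]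
  rw [Finset.sum_comm, add_sub_cancel_left, ← TensorProduct.tmul_sum, ← map_sum]
  rw [LinearMap.trace_eq_matrix_trace B b]
  simp [Matrix.trace, LinearMap.toMatrix_apply]

end Groth.Agent.Conn95.Hom
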